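import Cfsg.Agent.H883.BS.Out
import Cfsg.Agent.H193.Dg.Orth
import Cfsg.Agent.H305.BS.Adj

/-!
# S5733 (Boston-Shalev), orthogonal groups, the geometric classes (BS-R4)

For a subgroup `M` of `PΩ(Q)`, of rank at least 24 : `M` misses large primes for many exponents (`OutD`), or the
preimage of `M` is reducible, or it lies in the residual class.
-/

set_option autoImplicit false
set_option linter.unusedSectionVars false

namespace Cfsg.Agent.H305.BS

open Module QuadraticMap Cfsg Cfsg.Geo Cfsg.Agent.LieClassical.OrthCore Cfsg.Agent.H955 Cfsg.Agent.H954.TSing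
open Cfsg.Agent.OrdDiv Cfsg.Agent.H851.Dg Cfsg.Agent.H884.El Cfsg.Agent.LieClassical.OmegaReindex
open Cfsg.Agent.H883.BS (BigE OutD)
open Cfsg.Agent.H278.El.AltNum (dimOf)
open scoped MatrixGroups Matrix

universe u

/-! ### Exponents -/

/-- `i ↦ 6 i + 1` or `6 i + 4`. -/
def Sel (f : ℕ → ℕ) : Prop := ∀ i, f i = 6 * i + 1 ∨ f i = 6 * i + 4

/-- if `M` does not miss a large prime for many exponents, then it is divisible by all primitive primes of one of the
exponents given by a selector. -/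
theorem exists_hit {g : Grp} {T : Type*} [Group T] {M : Subgroup T} {m : ℕ} (hm : 24 ≤ m)
    (hg : dimOf g ≤ 2 * m + 1)
    (hM : ¬ OutD g M) {f : ℕ → ℕ} (hf : Sel f) :
    ∃ i, m < 2 * f i ∧ f i < m ∧ ∀ u, BigE g (2 * f i) u → u ∣ Nat.card M := by
  by_contra hcon
  push Not at hcon
  apply hM
  refine ⟨(Finset.Ico (m / 12 + 1) (2 * (m / 12))).image (fun i => 2 * f i), ?_, ?_⟩
  · have hinj : Function.Injective (fun i => 2 * f i) := by
      intro a b hab
      have hab : 2 * f a = 2 * f b := hab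
      rcases hf a with h1 | h1 <;> rcases hf b with h2 | h2 <;> omega
    rw [Finset.card_image_of_injective _ hinj, Nat.card_Ico]
    omega
  · intro e he
    rw [Finset.mem_image] at he
    obtain ⟨i, hi, rfl⟩ := he
    rw [Finset.mem_Ico] at hi
    have h1 := hf i
    exact hcon i (by omega) (by omega)

/-- the primes with exponent `2 j`, `j ≡ 1` modulo 3, are at least `4 j + 1`. -/
theorem PP.ge {q j r : ℕ} (hr : PP q (2 * j) r) (hj : 4 ≤ j) (h3 : j % 3 = 1) : 4 * j + 1 ≤ r := by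
  obtain ⟨c, hc⟩ := hr.dvd_sub_one (by omega)
  have h2 := hr.prime.two_le
  have hlt := hr.lt (by omega)
  have hc0 : c ≠ 0 := by
    rintro rfl
    omega
  by_cases hc1 : c = 1
  · exfalso
    subst hc1
    have h4 : 3 ∣ r := by omega
    have h5 : 3 = r := (Nat.prime_dvd_prime_iff_eq Nat.prime_three hr.prime).1 h4
    omega
  · have h5 : 2 ≤ c := by omega
    have := Nat.mul_le_mul_left (2 * j) h5
    omega

theorem sel_mod {f : ℕ → ℕ} (hf : Sel f) (i : ℕ) : f i % 3 = 1 := by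
  rcases hf i with h | h <;> omega

section quad

variable {ι : Type} [Fintype ι] [DecidableEq ι] {F : Type u} [Field F] [Fintype F] {Q : QuadraticForm F (ι → F)}

/-- **The geometric classes.** `hits` : for every selector there is an exponent all of whose primes divide `|H|`. -/
theorem geo_main {m : ℕ} (hm : 24 ≤ m) (hn : Fintype.card ι = 2 * m ∨ Fintype.card ι = 2 * m + 1) (hQ : Nondeg Q)
    {H : Subgroup (GL ι F)} (hH : H ≤ Cfsg.isometryGroup F (⇑Q))
    (hits : ∀ f : ℕ → ℕ, Sel f → ∃ i, m < 2 * f i ∧ f i < m ∧ ∀ r, PP (Nat.card F) (2 * f i) r → r ∣ Nat.card H) :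
    (∃ W : Submodule F (ι → F), W ≠ ⊥ ∧ W ≠ ⊤ ∧ H ≤ subspaceStabilizer W) ∨ InOrthogonalResidualClass H := by
  have hq := one_lt_q F
  by_cases hirr : ActsIrreducibly (matrixSet H)
  swap
  · left
    unfold ActsIrreducibly at hirr
    push Not at hirr
    obtain ⟨W, hW, hW0, hW1⟩ := hirr
    refine ⟨W, hW0, hW1, fun g hg => ?_⟩
    rw [Cfsg.Agent.H884.OmegaGL.mem_subspaceStabilizer]
    intro w hw
    have h1 := hW (g : Matrix ι ι F) ⟨g, hg, rfl⟩ (Submodule.mem_map_of_mem hw)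
    rwa [Matrix.toLin'_apply] at h1
  right
  have hne : Nonempty ι := Fintype.card_pos_iff.1 (by omega)
  obtain ⟨p, a, hp, ha, hpa⟩ := exists_char F
  -- a hit for each selector
  have key : ∀ f : ℕ → ℕ, Sel f → ∃ i r, m < 2 * f i ∧ f i < m ∧ PP p (a * (2 * f i)) r ∧
      PP (Nat.card F) (2 * f i) r ∧ r ∣ Nat.card H ∧ 2 * m + 3 ≤ r := by
    intro f hf
    obtain ⟨i, h1, h2, h3⟩ := hits f hf
    obtain ⟨r, hr⟩ := exists_ppp (e := 2 * f i) hp ha (by omega) (by omega) (fun b hb => by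
      have := Nat.mul_le_mul hb (show 7 ≤ 2 * f i by omega); omega)
    have hrq : PP (Nat.card F) (2 * f i) r := by rw [hpa]; exact hr.of_pow ha
    have h4 := PP.ge hrq (by omega) (sel_mod hf i)
    exact ⟨i, r, h1, h2, hr, hrq, h3 r hrq, by omega⟩
  obtain ⟨i, r, hi1, hi2, hr, hrq, h0, hrn⟩ := key (fun i => 6 * i + 1) (fun i => Or.inl rfl)
  have hi1' : m < 2 * (6 * i + 1) := hi1
  have hi2' : 6 * i + 1 < m := hi2
  have hrq' : PP (Nat.card F) (2 * (6 * i + 1)) r := hrq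
  have hr' : PP p (a * (2 * (6 * i + 1))) r := hr
  rcases Cfsg.Agent.H925.orth_irreducible_fine (by omega) (Cfsg.Agent.H884.OddForm.isNondegenerate_of_nondeg Q hQ) hH
      hirr with
    ⟨t, k, D, htk, hD, hHD, -⟩ | ⟨k, D, hk, hD, -, hHD⟩ | ⟨s, K, hs, hsn, hK, hKa, hHK⟩ |
    ⟨n₁, n₂, e, P, -, -, -, h1, h2, h12, -, -, -, -, hHT⟩ | ⟨F₁, s, B, -, -, hs, hcard, -, -, hHF⟩ |
    ⟨s, m', R, -, -, hHR, habs, hR, -, hm', hsm, -, ht, -⟩ | ⟨k, t, e, P, E, hkt, hW⟩ | hS
  · -- (C2a)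
    exfalso
    have h2t := hD.decomp.decomp.two_le
    have hkd : k < 2 * (6 * i + 1) := by
      by_contra hcon
      push Not at hcon
      have := Nat.mul_le_mul h2t hcon
      omega
    have hrt := decomp_le hD.decomp.decomp hHD hrq' hkd h0
    have hk1 := hD.decomp.decomp.pos
    have := Nat.mul_le_mul hrt hk1
    omega
  · -- (C2b)
    exfalso
    have := decomp_le hD hHD hrq' (by omega) h0
    omega
  · -- (C3)
    exfalso
    by_cases hs2 : s = 2
    · subst hs2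
      obtain ⟨i', r', hi1'', hi2'', hr'', hrq'', h0', hrn'⟩ := key (fun i => 6 * i + 4) (fun i => Or.inr rfl)
      have h5 : m < 2 * (6 * i' + 4) := hi1''
      have h6 : 6 * i' + 4 < m := hi2''
      refine no_two (j₁ := 6 * i' + 4) (j₂ := 6 * i + 1) (by omega) (by omega) (by omega) (by omega)
        ⟨3 * i' + 2, by ring⟩ ⟨3 * i, by ring⟩ (by omega) hQ hH hrq'' h0' hrq' h0 hK hHK hKa
    · obtain ⟨i', r', hi1'', hi2'', hr'', hrq'', h0', hrn'⟩ :=
        key (fun i => if s ∣ 6 * i + 1 then 6 * i + 4 else 6 * i + 1) (fun i => by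
          show (if s ∣ 6 * i + 1 then 6 * i + 4 else 6 * i + 1) = _ ∨
            (if s ∣ 6 * i + 1 then 6 * i + 4 else 6 * i + 1) = _
          split_ifs
          · exact Or.inr rfl
          · exact Or.inl rfl)
      set j := (fun i => if s ∣ 6 * i + 1 then 6 * i + 4 else 6 * i + 1) i' with hj
      have hsj : ¬ s ∣ j := by
        intro hsj
        have hj' : j = if s ∣ 6 * i' + 1 then 6 * i' + 4 else 6 * i' + 1 := rfl
        rw [hj'] at hsj
        by_cases hc : s ∣ 6 * i' + 1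
        · rw [if_pos hc] at hsj
          have h7 : s ∣ 3 := by
            have := Nat.dvd_sub hsj hc
            rwa [show 6 * i' + 4 - (6 * i' + 1) = 3 by omega] at this
          have h8 : s = 3 := (Nat.prime_dvd_prime_iff_eq hs Nat.prime_three).1 h7
          rw [h8] at hc
          omega
        · rw [if_neg hc] at hsj
          exact hc hsj
      rcases ext_cases hs hK hHK hsn hrq'' (by omega) h0' with h7 | h7
      · have := Nat.le_of_dvd (by omega) hsn
        omega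
      · rcases hs.dvd_mul.1 h7 with h8 | h8
        · exact hs2 ((Nat.prime_dvd_prime_iff_eq hs Nat.prime_two).1 h8)
        · exact hsj h8
  · exact absurd (kill_tensor e P hHT h1 h2 h12 hrq' (by omega) h0) id
  · exact absurd (kill_subfield hHF hs hcard hp hpa hr' (by omega) (by omega) h0) id
  · -- (C6)
    exfalso
    have := symp_le hHR habs hR hm' hsm ht hrq' (by omega) h0
    omega
  · exact absurd (kill_wreath hW hkt hrq' (by omega) h0) id
  · exact hS

variable {M : Subgroup (POmega F (⇑Q))}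

/-- for the groups `PΩ(Q)`. -/
theorem geoD_main {g : Grp} {m : ℕ} (hm : 24 ≤ m) (hn : Fintype.card ι = 2 * m ∨ Fintype.card ι = 2 * m + 1)
    (hg : dimOf g ≤ 2 * m + 1) (hbig : ∀ j r, m < 2 * j → j < m → PP (Nat.card F) (2 * j) r → BigE g (2 * j) r)
    (hQ : Nondeg Q) (M : Subgroup (POmega F (⇑Q))) :
    OutD g M ∨ (∃ W : Submodule F (ι → F), W ≠ ⊥ ∧ W ≠ ⊤ ∧ pre (⇑Q) M ≤ subspaceStabilizer W) ∨
      InOrthogonalResidualClass (pre (⇑Q) M) := by
  by_cases hM : OutD g M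
  · exact Or.inl hM
  · refine Or.inr (geo_main hm hn hQ pre_le fun f hf => ?_)
    obtain ⟨i, h1, h2, h3⟩ := exists_hit hm hg hM hf
    exact ⟨i, h1, h2, fun r hr => (h3 r (hbig _ _ h1 h2 hr)).trans card_dvd_pre⟩

end quad

section standard

variable {F : Type u} [Field F] [Fintype F]

/-- **BS-R4**, `PΩ_{2m+1}(q)`, `q` odd, `m ≥ 24`. -/
theorem geoD_oodd {m : ℕ} (hm : 24 ≤ m) (hodd : Odd (Fintype.card F)) (M : Subgroup (POmega F (quadFormOdd m F))) :
    OutD (.oodd m (Fintype.card F)) M ∨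
      (∃ W : Submodule F ((Unit ⊕ (Fin m ⊕ Fin m)) → F), W ≠ ⊥ ∧ W ≠ ⊤ ∧
        pre (quadFormOdd m F) M ≤ subspaceStabilizer W) ∨
      InOrthogonalResidualClass (pre (quadFormOdd m F) M) := by
  have h2 := H390.two_ne_zero_of_odd hodd
  have h : ∀ M : Subgroup (POmega F (⇑(quadOdd m F))),
      OutD (.oodd m (Nat.card F)) M ∨
      (∃ W : Submodule F ((Unit ⊕ (Fin m ⊕ Fin m)) → F), W ≠ ⊥ ∧ W ≠ ⊤ ∧
        pre (⇑(quadOdd m F)) M ≤ subspaceStabilizer W) ∨ InOrthogonalResidualClass (pre (⇑(quadOdd m F)) M) :=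
    geoD_main hm (Or.inr (card_odd m)) (by show 2 * m + 1 ≤ _; omega)
      (fun j r h1 h2 hr => ⟨hr.prime, hr.ord, even_two_mul j, by omega, by omega⟩)
      (nondeg_iff.2 (quadOdd_nondegenerate h2))
  rw [coe_quadOdd, Nat.card_eq_fintype_card] at h
  exact h M

/-- **BS-R4**, `PΩ⁻_{2m}(q)`, `m ≥ 24`. -/
theorem geoD_ominus {m : ℕ} (hm : 24 ≤ m) {a b : F}
    (hab : ∀ z₁ z₂ : F, z₁ ^ 2 + a * z₁ * z₂ + b * z₂ ^ 2 = 0 → z₁ = 0 ∧ z₂ = 0)
    (M : Subgroup (POmega F (quadFormMinus (m - 1) F a b))) :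
    OutD (.ominus m (Fintype.card F)) M ∨
      (∃ W : Submodule F (((Fin (m - 1) ⊕ Fin (m - 1)) ⊕ Fin 2) → F), W ≠ ⊥ ∧ W ≠ ⊤ ∧
        pre (quadFormMinus (m - 1) F a b) M ≤ subspaceStabilizer W) ∨
      InOrthogonalResidualClass (pre (quadFormMinus (m - 1) F a b) M) := by
  have h : ∀ M : Subgroup (POmega F (⇑(quadMinus (m - 1) F a b))),
      OutD (.ominus m (Nat.card F)) M ∨
      (∃ W : Submodule F (((Fin (m - 1) ⊕ Fin (m - 1)) ⊕ Fin 2) → F), W ≠ ⊥ ∧ W ≠ ⊤ ∧
        pre (⇑(quadMinus (m - 1) F a b)) M ≤ subspaceStabilizer W) ∨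
      InOrthogonalResidualClass (pre (⇑(quadMinus (m - 1) F a b)) M) :=
    geoD_main hm (Or.inl (card_minus (by omega))) (by show 2 * m ≤ _; omega)
      (fun j r h1 h2 hr => ⟨hr.prime, hr.ord, even_two_mul j, by omega, by omega⟩)
      (nondeg_iff.2 (quadMinus_nondegenerate hab))
  rw [coe_quadMinus, Nat.card_eq_fintype_card] at h
  exact h M

/-- **BS-R4**, `PΩ⁺_{2m}(q)`, `m ≥ 24`. -/
theorem geoD_oplus {m : ℕ} (hm : 24 ≤ m) (M : Subgroup (POmega F (quadFormPlus m F))) :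
    OutD (.oplus m (Fintype.card F)) M ∨
      (∃ W : Submodule F ((Fin m ⊕ Fin m) → F), W ≠ ⊥ ∧ W ≠ ⊤ ∧
        pre (quadFormPlus m F) M ≤ subspaceStabilizer W) ∨
      InOrthogonalResidualClass (pre (quadFormPlus m F) M) := by
  have h : ∀ M : Subgroup (POmega F (⇑(quadPlus m F))),
      OutD (.oplus m (Nat.card F)) M ∨
      (∃ W : Submodule F ((Fin m ⊕ Fin m) → F), W ≠ ⊥ ∧ W ≠ ⊤ ∧
        pre (⇑(quadPlus m F)) M ≤ subspaceStabilizer W) ∨
      InOrthogonalResidualClass (pre (⇑(quadPlus m F)) M) :=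
    geoD_main hm (Or.inl (card_plus m)) (by show 2 * m ≤ _; omega)
      (fun j r h1 h2 hr => ⟨hr.prime, hr.ord, even_two_mul j, by omega, by omega⟩)
      (nondeg_iff.2 quadPlus_nondegenerate)
  rw [coe_quadPlus, Nat.card_eq_fintype_card] at h
  exact h M

end standard

end Cfsg.Agent.H305.BS
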